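import Groth.Prelude.Def_Pic13
import Groth.Agent.CurveKS.HomFinite
import Groth.Agent.CurveCohLib.Proper
import Groth.Agent.QCoh.RpushStalk
import Groth.Agent.QCoh.Support

/-!
Cokernels of morphisms between two fixed coherent modules form a bounded family.
-/

set_option linter.style.haveILetI false
set_option linter.unusedSectionVars false
set_option backward.isDefEq.respectTransparency false
set_option backward.isDefEq.respectTransparency.types false
set_option maxHeartbeats 800000

universe u

open CategoryTheory CategoryTheory.Limits AlgebraicGeometry TopologicalSpace Opposite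

noncomputable section

namespace Groth.Agent.Bounded

section Scalars

variable {X Y : Scheme.{u}} (f : X ⟶ Y)

theorem app_res_top (V : Y.Opens) (r : Γ(Y, ⊤)) :
    f.app V (Y.presheaf.map (homOfLE (le_top (a := V))).op r) =
      X.presheaf.map (homOfLE (le_top (a := f ⁻¹ᵁ V))).op (f.appTop r) :=
  congr($(f.naturality (homOfLE (le_top (a := V))).op) r)

theorem pushforward_smulModΓ (N : X.Modules) (r : Coh.Γtop Y) :
    (Scheme.Modules.pushforward f).map (Formal.smulModΓ N (f.appTop r)) =
      Formal.smulModΓ ((Scheme.Modules.pushforward f).obj N) r := by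
  apply SheafOfModules.Hom.ext
  ext V m
  exact congrArg (· • (show Γ(N, f ⁻¹ᵁ V.unop) from m)) (app_res_top f V.unop r).symm

/-- Pullback of multiplication by a global function. -/
theorem pullback_smulModΓ (M : Y.Modules) (r : Coh.Γtop Y) :
    (Scheme.Modules.pullback f).map (Formal.smulModΓ M r) =
      Formal.smulModΓ ((Scheme.Modules.pullback f).obj M) (f.appTop r) := by
  let adj := Scheme.Modules.pullbackPushforwardAdjunction f
  apply (adj.homEquiv _ _).injective
  rw [← Category.comp_id ((Scheme.Modules.pullback f).map _), adj.homEquiv_naturality_left,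
    adj.homEquiv_unit, adj.homEquiv_unit, pushforward_smulModΓ f, CategoryTheory.Functor.map_id]
  erw [Category.comp_id]
  exact (KLin.comp_smulModΓ _ _).symm

/-- A finite combination with global coefficients, pulled back. -/
theorem pullback_comb {σ : Type*} (s : Finset σ) {A B : Y.Modules} (φ : σ → (A ⟶ B)) (c : σ → Coh.Γtop Y) :
    (Scheme.Modules.pullback f).map (∑ a ∈ s, Formal.smulModΓ A (c a) ≫ φ a) =
      ∑ a ∈ s, Formal.smulModΓ ((Scheme.Modules.pullback f).obj A) (f.appTop (c a)) ≫
        (Scheme.Modules.pullback f).map (φ a) := by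
  haveI := (Scheme.Modules.pullbackPushforwardAdjunction f).left_adjoint_additive
  rw [Functor.map_sum]
  exact Finset.sum_congr rfl fun a _ => by rw [Functor.map_comp, pullback_smulModΓ]

end Scalars

variable (k : Type u) [Field k] (X : Scheme.{u}) [X.Over (Spec (CommRingCat.of k))]
  [IsProper (X ↘ Spec (CommRingCat.of k))]

/-- Cokernels of maps between two coherent modules form a bounded family. -/
theorem isBounded_cokernel {A B : X.Modules} (hA : Coh.IsCoh A) (hB : Coh.IsCoh B) :
    Pic13.IsBounded k X (fun L => ∃ φ : A ⟶ B, Nonempty (cokernel φ ≅ L)) := by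
  haveI := CurveKS.finite_hom k hA hB
  obtain ⟨d, b, hb⟩ := Module.Finite.exists_fin (R := k) (M := A ⟶ B)
  let R := MvPolynomial (ULift.{u} (Fin d)) k
  let q : Spec (CommRingCat.of R) ⟶ Spec (CommRingCat.of k) :=
    Spec.map (CommRingCat.ofHom (algebraMap k R))
  haveI hq : LocallyOfFiniteType q := by
    rw [HasRingHomProperty.Spec_iff (P := @LocallyOfFiniteType)]
    exact RingHom.finiteType_algebraMap.2 inferInstance
  haveI hqc : QuasiCompact q := inferInstance
  let p : Pic13.prodK k X q ⟶ X := pullback.fst _ _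
  let c : Fin d → Coh.Γtop (Pic13.prodK k X q) := fun a =>
    (pullback.snd (X ↘ Spec (CommRingCat.of k)) q).appTop
      ((Scheme.ΓSpecIso (CommRingCat.of R)).inv (MvPolynomial.X (ULift.up a)))
  let U : (Scheme.Modules.pullback p).obj A ⟶ (Scheme.Modules.pullback p).obj B :=
    ∑ a, Formal.smulModΓ ((Scheme.Modules.pullback p).obj A) (c a) ≫ (Scheme.Modules.pullback p).map (b a)
  haveI := CurveCohLib.isNoetherian_of_proper (k := k) (X := X)
  haveI : IsLocallyNoetherian (Pic13.prodK k X q) := LocallyOfFiniteType.isLocallyNoetherian p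
  have hU : Coh.IsCoh (cokernel U) :=
    QCoh.isCoh_cokernel (QCoh.isQCoh_pullback p hA.1)
      ⟨QCoh.isQCoh_pullback p hB.1, QCoh.isFT_pullback p hB.1 hB.2⟩ U
  refine ⟨_, q, hq, hqc, cokernel U, hU, fun L ⟨φ, ⟨e⟩⟩ => ?_⟩
  obtain ⟨lam, hlam⟩ := (Submodule.mem_span_range_iff_exists_fun k).1 (hb.symm ▸ Submodule.mem_top (x := φ))
  let ev : R →+* k := MvPolynomial.eval fun a => lam a.down
  let t : Spec (CommRingCat.of k) ⟶ Spec (CommRingCat.of R) := Spec.map (CommRingCat.ofHom ev)
  have ht : t ≫ q = 𝟙 _ := by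
    simp only [t, q]
    rw [← Spec.map_comp, ← CommRingCat.ofHom_comp,
      show ev.comp (algebraMap k R) = RingHom.id k from RingHom.ext fun x => MvPolynomial.eval_C x,
      CommRingCat.ofHom_id, Spec.map_id]
  refine ⟨t, ht, ?_⟩
  let sl := Pic13.sliceAt k X q t ht
  have hsl : sl ≫ p = 𝟙 X := pullback.lift_fst _ _ _
  have hsnd : sl ≫ pullback.snd (X ↘ Spec (CommRingCat.of k)) q = (X ↘ Spec (CommRingCat.of k)) ≫ t :=
    pullback.lift_snd _ _ _
  have hc : ∀ a, sl.appTop (c a) = Coh.toGlobal (X ↘ Spec (CommRingCat.of k)) (lam a) := fun a => by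
    have h1 := congrArg (fun g : X ⟶ Spec (CommRingCat.of R) =>
      g.appTop ((Scheme.ΓSpecIso (CommRingCat.of R)).inv (MvPolynomial.X (ULift.up a)))) hsnd
    simp only [Scheme.Hom.comp_appTop, CommRingCat.comp_apply] at h1
    refine h1.trans ?_
    have h2 : t.appTop ((Scheme.ΓSpecIso (CommRingCat.of R)).inv (MvPolynomial.X (ULift.up a))) =
        (Scheme.ΓSpecIso (CommRingCat.of k)).inv (lam a) := by
      have h3 := congr($(Scheme.ΓSpecIso_inv_naturality (CommRingCat.ofHom ev)) (MvPolynomial.X (ULift.up a)))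
      refine h3.symm.trans ?_
      exact congrArg (fun x => (Scheme.ΓSpecIso (CommRingCat.of k)).inv x)
        (MvPolynomial.eval_X (f := fun a : ULift.{u} (Fin d) => lam a.down) (ULift.up a))
    rw [h2]
    rfl
  obtain ⟨Θ⟩ : Nonempty (Scheme.Modules.pullback p ⋙ Scheme.Modules.pullback sl ≅ 𝟭 X.Modules) :=
    ⟨Scheme.Modules.pullbackComp sl p ≪≫ Scheme.Modules.pullbackCongr hsl ≪≫ Scheme.Modules.pullbackId X⟩
  have hw : (Scheme.Modules.pullback sl).map U ≫ Θ.hom.app B = Θ.hom.app A ≫ φ := by
    rw [show U = _ from rfl, pullback_comb, Preadditive.sum_comp, ← hlam, Preadditive.comp_sum]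
    refine Finset.sum_congr rfl fun a _ => ?_
    rw [Category.assoc]
    erw [Θ.hom.naturality (b a)]
    show Formal.smulModΓ _ (sl.appTop (c a)) ≫ Θ.hom.app A ≫ b a = Θ.hom.app A ≫ (lam a • b a)
    rw [hc, KLin.smul_def]
    exact (Category.assoc _ _ _).symm.trans
      ((congrArg (· ≫ b a) (KLin.comp_smulModΓ (Θ.hom.app A) _).symm).trans (Category.assoc _ _ _))
  haveI := (Scheme.Modules.pullbackPushforwardAdjunction sl).leftAdjoint_preservesColimits
  exact ⟨PreservesCokernel.iso (Scheme.Modules.pullback sl) U ≪≫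
    cokernel.mapIso _ _ (Θ.app A) (Θ.app B) hw ≪≫ e⟩

end Groth.Agent.Bounded
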