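import Groth.Agent.Bounded.TwistOn
import Groth.Agent.HilbFib.Uniform
import Groth.Agent.AVTheta8.Fibre
import Groth.Agent.RGLib.Lim8RelAmple
import Groth.Agent.AmpleX.RelAffine
import Groth.Agent.CurveBC.Coh
import Groth.Agent.HilbPoly.PnTwist
import Groth.Agent.S10829

/-!
Members of a bounded family are uniformly regular and have finitely many Hilbert polynomials.
-/

set_option linter.style.haveILetI false
set_option linter.unusedSectionVars false
set_option backward.isDefEq.respectTransparency false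
set_option backward.isDefEq.respectTransparency.types false
set_option maxHeartbeats 1000000

universe u

open CategoryTheory CategoryTheory.Limits AlgebraicGeometry TopologicalSpace Opposite
open scoped Groth.Agent.H23.PicMul

noncomputable section

namespace Groth.Agent.Bounded

variable {k : Type u} [Field k]

/-- The Euler characteristic of the fibre over the point of a field is the Euler characteristic. -/
theorem χ_specField {X : Scheme.{u}} [X.Over (Spec (CommRingCat.of k))] [IsProper (X ↘ Spec (CommRingCat.of k))]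
    {G : X.Modules} (hG : Coh.IsQCoh G) (pt : Spec (CommRingCat.of k)) :
    HilbFib.χ (X ↘ Spec (CommRingCat.of k)) G pt = Curv2.euler k X G := by
  let str := X ↘ Spec (CommRingCat.of k)
  let κ := (Spec (CommRingCat.of k)).residueField pt
  let α : CommRingCat.of k ⟶ κ := Spec.preimage ((Spec (CommRingCat.of k)).fromSpecResidueField pt)
  letI : Algebra k κ := α.hom.toAlgebra
  letI : (str.fiber pt).Over (Spec (CommRingCat.of κ)) := ⟨str.fiberToSpecResidueField pt⟩
  haveI : IsProper (str.fiber pt ↘ Spec (CommRingCat.of κ)) := HilbFib.isProper_fibre str pt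
  haveI : IsNoetherian X := CurveCohLib.isNoetherian_of_proper (k := k)
  have hpb : IsPullback (str.fiberι pt) (str.fiber pt ↘ Spec (CommRingCat.of κ)) (X ↘ Spec (CommRingCat.of k))
      (Spec.map (CommRingCat.ofHom (algebraMap k κ))) := by
    rw [show Spec.map (CommRingCat.ofHom (algebraMap k κ)) = (Spec (CommRingCat.of k)).fromSpecResidueField pt
      from Spec.map_preimage _]
    exact IsPullback.of_hasPullback _ _
  exact CurveBC.euler_eq k κ (str.fiberι pt) hpb G hG

variable {X : Scheme.{u}} [X.Over (Spec (CommRingCat.of k))]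

theorem isPullback_slice {T : Scheme.{u}} (q : T ⟶ Spec (CommRingCat.of k)) (t : Spec (CommRingCat.of k) ⟶ T)
    (ht : t ≫ q = 𝟙 _) :
    IsPullback (Pic13.sliceAt k X q t ht) (X ↘ Spec (CommRingCat.of k))
      (pullback.snd (X ↘ Spec (CommRingCat.of k)) q) t := by
  refine IsPullback.of_right ?_ (pullback.lift_snd _ _ _) (IsPullback.of_hasPullback _ q)
  rw [show Pic13.sliceAt k X q t ht ≫ pullback.fst (X ↘ Spec (CommRingCat.of k)) q = 𝟙 X from pullback.lift_fst _ _ _, ht]
  exact IsPullback.of_horiz_isIso ⟨by simp⟩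

variable {n : ℕ} (ι : X ⟶ CohB1.ProjSpace n k) [IsClosedImmersion ι]
  (hι : ι ≫ CohB1.ProjSpace.toSpec n k = X ↘ Spec (CommRingCat.of k))

include hι in
theorem isProper_str : IsProper (X ↘ Spec (CommRingCat.of k)) := by
  haveI : IsProper (CohB1.ProjSpace.toSpec n k) := PnCoh.Chow.isProper_toSpec n k
  rw [← hι]
  infer_instance

include hι in
/-- The case of an affine parameter scheme. -/
theorem exists_bounds_affine {R : Type u} [CommRing R] [IsNoetherianRing R]
    (q : Spec (CommRingCat.of R) ⟶ Spec (CommRingCat.of k))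
    {F : (Pic13.prodK k X q).Modules} (hF : Coh.IsCoh F) :
    ∃ (m : ℤ) (Φ : Set (ℕ → ℤ)), Φ.Finite ∧
      ∀ (t : Spec (CommRingCat.of k) ⟶ Spec (CommRingCat.of R)) (ht : t ≫ q = 𝟙 _),
        Curv2.IsMRegular k n ((Scheme.Modules.pushforward ι).obj (Pic13.fibreMod k X q t ht F)) m ∧
          (fun d : ℕ => UnifReg.chi ((Scheme.Modules.pushforward ι).obj (Pic13.fibreMod k X q t ht F)) d) ∈ Φ := by
  haveI := isProper_str ι hι
  haveI : IsNoetherian (CohB1.ProjSpace n k) := Proj16.isNoetherian_proj _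
  let str := X ↘ Spec (CommRingCat.of k)
  let f := pullback.snd str q
  let p := pullback.fst str q
  let L₀ := (Scheme.Modules.pullback ι).obj (Twist.twistProjSpace n k 1)
  have hamp₀ : RelAmple.IsRelAmple str L₀ := (AmpleX.isRelAmple_iff_isAmple str L₀).2
    (RGLib.Lim8.isAmple_pullback_affine ι (HilbPoly.isAmple_twistProjSpace_one n k))
  have hamp : RelAmple.IsRelAmple f ((Scheme.Modules.pullback p).obj L₀) :=
    RGLib.Lim8.isRelAmple_of_isPullback (IsPullback.of_hasPullback str q) hamp₀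
  haveI : IsProper f := MorphismProperty.pullback_snd (P := @IsProper) _ _ ‹_›
  obtain ⟨N, hvan, -, hfin, -⟩ := HilbFib.exists_uniform f hamp hF
  refine ⟨(N : ℤ) + n, _, hfin, fun t ht => ?_⟩
  let sl := Pic13.sliceAt k X q t ht
  have sq := isPullback_slice (X := X) q t ht
  let pt : Spec (CommRingCat.of k) := IsLocalRing.closedPoint k
  have hsl : sl ≫ p = 𝟙 X := pullback.lift_fst _ _ _
  have hFt : Coh.IsCoh (Pic13.fibreMod k X q t ht F) :=
    ⟨QCoh.isQCoh_pullback sl hF.1, QCoh.isFT_pullback sl hF.1 hF.2⟩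
  have hLi : PicF.IsInvertible ((Scheme.Modules.pullback p).obj L₀) := AmpleX.isInvertible_of_isRelAmple hamp
  have htw : ∀ d : ℕ, Nonempty ((Scheme.Modules.pullback sl).obj (HilbFib.tw F ((Scheme.Modules.pullback p).obj L₀) d) ≅
      Pic13.twistOn k ι (Pic13.fibreMod k X q t ht F) (d : ℤ)) := fun d => by
    obtain ⟨a⟩ := HilbFib.tw_pullback sl F ((Scheme.Modules.pullback p).obj L₀) d
    obtain ⟨e⟩ := HilbPoly.nonempty_pow n k d
    obtain ⟨e'⟩ := IntNum.pullback_tensorPow ι (Twist.twistProjSpace n k 1) d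
    let eL : (Scheme.Modules.pullback sl).obj ((Scheme.Modules.pullback p).obj L₀) ≅ L₀ :=
      (Scheme.Modules.pullbackComp sl p).app L₀ ≪≫ (Scheme.Modules.pullbackCongr hsl).app L₀ ≪≫
        (Scheme.Modules.pullbackId X).app L₀
    obtain ⟨b⟩ : Nonempty (CohB1.tensorPow ((Scheme.Modules.pullback sl).obj ((Scheme.Modules.pullback p).obj L₀)) d ≅
        (Scheme.Modules.pullback ι).obj (Twist.twistProjSpace n k d)) := by
      refine H23.PicMul.cl_eq_iff.1 ?_
      rw [H23.PicMul.cl_tensorPow, H23.PicMul.cl_eq_iff.2 ⟨eL⟩, ← H23.PicMul.cl_tensorPow]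
      exact H23.PicMul.cl_eq_iff.2 ⟨e'.symm ≪≫ (Scheme.Modules.pullback ι).mapIso e.symm⟩
    exact ⟨a ≪≫ (DCoh.tensorBi.obj _).mapIso b⟩
  refine ⟨fun i hi hin => ?_, t pt, funext fun d => ?_⟩
  · obtain ⟨d, hd⟩ : ∃ d : ℕ, (d : ℤ) = (N : ℤ) + n - i := ⟨N + n - i, by omega⟩
    obtain ⟨e⟩ := nonempty_HH_twistOn ι hι hFt d i
    obtain ⟨j, rfl⟩ : ∃ j, i = j + 1 := ⟨i - 1, by omega⟩
    rw [← hd]
    haveI : Coh.IsQCoh (HilbFib.tw F ((Scheme.Modules.pullback p).obj L₀) d) := HilbFib.isQCoh_tw hF.1 hLi d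
    have h := (AVTheta8.subsingleton_fiberH_iff f t q ht sq
      (HilbFib.tw F ((Scheme.Modules.pullback p).obj L₀) d) (j + 1)).1 (hvan d (by omega) (t pt) j)
    obtain ⟨e2⟩ := htw d
    haveI := QCoh.subsingleton_HH_of_iso e2 (j + 1) h
    exact e.toEquiv.symm.subsingleton
  · obtain ⟨e2⟩ := htw d
    have hq := HilbFib.isQCoh_tw hF.1 hLi d
    show HilbFib.χ (pullback.snd (X ↘ Spec (CommRingCat.of k)) q) _ (t pt) = _
    rw [← HilbFib.χ_baseChange sq hq pt, χ_specField (QCoh.isQCoh_pullback sl hq),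
      CurveCohLib.euler_congr (k := k) e2]
    exact (finsum_congr fun i => by
      obtain ⟨e⟩ := nonempty_HH_twistOn ι hι hFt (d : ℤ) i
      rw [e.finrank_eq] :
        Curv2.euler k X (Pic13.twistOn k ι (Pic13.fibreMod k X q t ht F) (d : ℤ)) = _)

include hι in
/-- Members of a bounded family are uniformly regular, with finitely many Hilbert functions. -/
theorem exists_bounds (P : X.Modules → Prop) (hP : ∀ F, P F → Coh.IsCoh F) (hb : Pic13.IsBounded k X P) :
    ∃ (m : ℤ) (Φ : Set (ℕ → ℤ)), Φ.Finite ∧ ∀ G, P G →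
      Curv2.IsMRegular k n ((Scheme.Modules.pushforward ι).obj G) m ∧
        (fun d : ℕ => UnifReg.chi ((Scheme.Modules.pushforward ι).obj G) d) ∈ Φ := by
  classical
  obtain ⟨T, q, hq, hqc, F, hF, hmem⟩ := hb
  haveI := hq
  haveI := hqc
  haveI : IsNoetherian (CohB1.ProjSpace n k) := Proj16.isNoetherian_proj _
  haveI : IsLocallyNoetherian T := LocallyOfFiniteType.isLocallyNoetherian q
  haveI : CompactSpace T := QuasiCompact.compactSpace_of_compactSpace q
  choose V hV hxV _ using fun z : T => exists_isAffineOpen_mem_and_subset (x := z) (U := ⊤) trivial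
  obtain ⟨S, hS⟩ := isCompact_univ.elim_finite_subcover (fun z : T => (V z : Set T)) (fun z => (V z).2)
    (fun z _ => Set.mem_iUnion.2 ⟨z, hxV z⟩)
  let g : ∀ z, Pic13.prodK k X ((hV z).fromSpec ≫ q) ⟶ Pic13.prodK k X q := fun z =>
    pullback.map _ _ _ _ (𝟙 X) (hV z).fromSpec (𝟙 _) (by simp) (by simp)
  haveI : ∀ z, IsNoetherianRing Γ(T, V z) := fun z => IsLocallyNoetherian.component_noetherian ⟨_, hV z⟩
  choose m Φ hΦ h using fun z => exists_bounds_affine ι hι ((hV z).fromSpec ≫ q)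
    (F := (Scheme.Modules.pullback (g z)).obj F) ⟨QCoh.isQCoh_pullback (g z) hF.1, QCoh.isFT_pullback (g z) hF.1 hF.2⟩
  refine ⟨(S.sum fun z => |m z|), ⋃ z ∈ S, Φ z, S.finite_toSet.biUnion fun z _ => hΦ z, fun G hG => ?_⟩
  obtain ⟨t, ht, ⟨e⟩⟩ := hmem G hG
  obtain ⟨z, hz, hzt⟩ := Set.mem_iUnion₂.1 (hS (Set.mem_univ (t (IsLocalRing.closedPoint k))))
  obtain ⟨t', ht'⟩ := HilbFib.exists_lift_field (hV z).fromSpec t (by rw [(hV z).range_fromSpec]; exact hzt)
  have ht'' : t' ≫ (hV z).fromSpec ≫ q = 𝟙 _ := by rw [← Category.assoc, ht', ht]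
  obtain ⟨hreg, hfn⟩ := h z t' ht''
  have hsl : Pic13.sliceAt k X _ t' ht'' ≫ g z = Pic13.sliceAt k X q t ht := by
    refine pullback.hom_ext ?_ ?_ <;> simp [g, Pic13.sliceAt, ht']
  let e' : Pic13.fibreMod k X _ t' ht'' ((Scheme.Modules.pullback (g z)).obj F) ≅ G :=
    (Scheme.Modules.pullbackComp _ (g z)).app F ≪≫ (Scheme.Modules.pullbackCongr hsl).app F ≪≫ e
  refine ⟨UnifReg.isMRegular_of_le (QCoh.isCoh_pushforward_finite ι (hP G hG)) ?_
    (UnifReg.isMRegular_iso ((Scheme.Modules.pushforward ι).mapIso e') hreg),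
    Set.mem_iUnion₂.2 ⟨z, hz, ?_⟩⟩
  · exact (le_abs_self _).trans (Finset.single_le_sum (f := fun z => |m z|) (fun i _ => abs_nonneg _) hz)
  · convert hfn using 1
    funext d
    exact (UnifReg.chi_iso ((Scheme.Modules.pushforward ι).mapIso e') _).symm

include hι in
/-- A Hilbert polynomial on all twists. -/
theorem exists_poly_twistOn {G : X.Modules} (hG : Coh.IsCoh G) :
    ∃ φ : Polynomial ℚ, ∀ d : ℤ, (UnifReg.chi ((Scheme.Modules.pushforward ι).obj G) d : ℚ) = φ.eval (d : ℚ) := by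
  haveI : IsNoetherian (CohB1.ProjSpace n k) := Proj16.isNoetherian_proj _
  haveI : IsProper ((CohB1.ProjSpace n k) ↘ Spec (CommRingCat.of k)) := PnCoh.Chow.isProper_toSpec n k
  have hP := QCoh.isCoh_pushforward_finite ι hG
  have hd : topologicalKrullDim ↥(CohB1.support ((Scheme.Modules.pushforward ι).obj G)) ≤ (n : WithBot ℕ∞) :=
    (topologicalKrullDim_subspace_le _ _).trans (le_of_eq (S10829.result k n))
  obtain ⟨Q, hQ, -⟩ := HilbPoly.exists_hilb (k := k) (HilbPoly.isAmple_twistProjSpace_one n k).1 hP hd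
  exact ⟨Q, fun d => HilbPoly.euler_twist_eq hP hd hQ d⟩

end Groth.Agent.Bounded
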