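import Groth.Agent.Bounded.TwistOn
import Groth.Agent.S11296
import Groth.Agent.AmpleVan.AdicBase

/-!
Regularity on a closed subscheme of projective space and regularity of the direct image.
-/

set_option linter.style.haveILetI false
set_option linter.unusedSectionVars false
set_option backward.isDefEq.respectTransparency false
set_option backward.isDefEq.respectTransparency.types false
set_option maxHeartbeats 1000000

universe u

open CategoryTheory CategoryTheory.Limits AlgebraicGeometry TopologicalSpace Opposite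
open Groth.Agent.UnifReg Groth.Agent.RegEpi

noncomputable section

namespace Groth.Agent.Bounded

variable {k : Type u} [Field k] {n : ℕ} {X : Scheme.{u}} (ι : X ⟶ CohB1.ProjSpace n k) [IsClosedImmersion ι]
  [X.Over (Spec (CommRingCat.of k))] (hι : ι ≫ CohB1.ProjSpace.toSpec n k = X ↘ Spec (CommRingCat.of k))

include hι in
theorem isMRegular_push_iff {F : X.Modules} (hF : Coh.IsCoh F) (m : ℤ) :
    Curv2.IsMRegular k n ((Scheme.Modules.pushforward ι).obj F) m ↔ Pic13.IsMRegular k ι F m := by
  haveI : IsNoetherian (CohB1.ProjSpace n k) := Proj16.isNoetherian_proj _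
  refine ⟨fun h q hq => ?_, fun h i hi _ => ?_⟩
  · obtain ⟨e⟩ := nonempty_HH_twistOn ι hι hF (m - q) q
    haveI := subsingleton_HH_of_reg (QCoh.isCoh_pushforward_finite ι hF) h hq (le_refl (m - (q : ℤ)))
    exact e.toEquiv.subsingleton
  · obtain ⟨e⟩ := nonempty_HH_twistOn ι hι hF (m - i) i
    haveI := h i hi
    exact e.symm.toEquiv.subsingleton

/-- Generation by sections on the closed subscheme. -/
theorem isGloballyGenerated_twistOn_of_reg {F : X.Modules} (hF : Coh.IsCoh F) {m : ℤ}
    (h : Curv2.IsMRegular k n ((Scheme.Modules.pushforward ι).obj F) m) :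
    Curv2.IsGloballyGenerated (Pic13.twistOn k ι F m) := by
  haveI : IsNoetherian (CohB1.ProjSpace n k) := Proj16.isNoetherian_proj _
  have hgg := S1647.result k n _ (QCoh.isCoh_pushforward_finite ι hF) m h
  obtain ⟨e⟩ := IntNum.push_tensor ι F (Twist.twistProjSpace n k m)
  have hq : Coh.IsQCoh (Pic13.twistOn k ι F m) :=
    KFlatLib.isQCoh_tensor hF.1 (ProjUPX.isQCoh_of_isInvertible (PicClLib.isInvertible_pullback ι
      (PnCoh.Finite.isInvertible_twist (ProjRegular.coords k n) ProjRegular.coords_mem ProjRegular.coords_cover m)))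
  haveI := QCohSupX.isIso_counit_closed ι hq
  exact AmpleX.isGloballyGenerated_of_iso
    (asIso ((Scheme.Modules.pullbackPushforwardAdjunction ι).counit.app (Pic13.twistOn k ι F m)))
    (ExpDescLib.isGloballyGenerated_pullback ι (AmpleX.isGloballyGenerated_of_iso e.symm hgg))

/-- The direct image of an extension by a twist. -/
theorem exists_setup_push {F G : X.Modules} (hF : Coh.IsCoh F) (hG : Coh.IsCoh G)
    (f : Pic13.twistOn k ι F (-1) ⟶ F) (g : F ⟶ G) (hfg : f ≫ g = 0) (hS : (ShortComplex.mk f g hfg).ShortExact)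
    (m : ℤ) (hm : Curv2.IsMRegular k n ((Scheme.Modules.pushforward ι).obj G) m) :
    ∃ G' : (CohB1.ProjSpace n k).Modules,
      Nonempty (RegDescent.Setup (k := k) (n := n) ((Scheme.Modules.pushforward ι).obj F) G' m) := by
  haveI : IsNoetherian (CohB1.ProjSpace n k) := Proj16.isNoetherian_proj _
  haveI : Mono f := hS.mono_f
  haveI : Epi g := hS.epi_g
  haveI := AmpleVan.epi_push ι hF.1 hG.1 g
  haveI := (Scheme.Modules.pullbackPushforwardAdjunction ι).rightAdjoint_preservesLimits
  obtain ⟨e⟩ := IntNum.push_tensor ι F (Twist.twistProjSpace n k (-1))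
  let φ : (twF (k := k) (n := n) (-1)).obj ((Scheme.Modules.pushforward ι).obj F) ⟶ (Scheme.Modules.pushforward ι).obj F :=
    e.inv ≫ (Scheme.Modules.pushforward ι).map f
  haveI : Mono ((Scheme.Modules.pushforward ι).map f) := inferInstance
  haveI : Mono φ := mono_comp _ _
  have hker : IsLimit (KernelFork.ofι ((Scheme.Modules.pushforward ι).map f)
      (show (Scheme.Modules.pushforward ι).map f ≫ (Scheme.Modules.pushforward ι).map g = 0 by
        rw [← Functor.map_comp, hfg, Functor.map_zero])) :=
    isLimitForkMapOfIsLimit' _ hfg hS.fIsKernel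
  have hco := Abelian.epiIsCokernelOfKernel _ hker
  let c : cokernel φ ≅ (Scheme.Modules.pushforward ι).obj G :=
    cokernelEpiComp e.inv _ ≪≫ (cokernelIsCokernel _).coconePointUniqueUpToIso hco
  exact ⟨cokernel φ, S11296.exists_setup k n ((Scheme.Modules.pushforward ι).obj F) (QCoh.isCoh_pushforward_finite ι hF) φ m
    (UnifReg.isMRegular_iso c.symm hm)⟩

include hι in
theorem finrank_h1_push {F : X.Modules} (hF : Coh.IsCoh F) (d : ℤ) :
    RegDescent.h1 (k := k) (n := n) ((Scheme.Modules.pushforward ι).obj F) d =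
      Module.finrank k (Coh.HH X (Pic13.twistOn k ι F d) 1) := by
  obtain ⟨e⟩ := nonempty_HH_twistOn ι hι hF d 1
  exact e.finrank_eq.symm

end Groth.Agent.Bounded
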