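import Groth.Agent.UnifReg.MulLin
import Groth.Agent.Bounded.PointSupport
import Groth.Agent.IntNum.NegTwist

/-!
Sections of negative twists of a module without associated closed points.
-/

set_option linter.style.haveILetI false
set_option linter.unusedSectionVars false
set_option backward.isDefEq.respectTransparency false
set_option backward.isDefEq.respectTransparency.types false
set_option maxHeartbeats 1000000

universe u

open CategoryTheory CategoryTheory.Limits AlgebraicGeometry TopologicalSpace Opposite MonoidalCategory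
open Groth.Agent.PnCoh.Finite (mapLin D)
open Groth.Agent.UnifReg Groth.Agent.RegEpi Groth.Agent.PnCoh Groth.Agent.PnCoh.Finite

noncomputable section

namespace Groth.Agent.Bounded

section Graded

variable {R A : Type u} [CommRing R] [CommRing A] [Algebra R A]
  {𝒜 : ℕ → Submodule R A} [GradedAlgebra 𝒜] {a f : A}

/-- Off `D(a)` multiplication by `a` lands in the maximal ideal. -/
theorem mem_smul_mulHom (ha : a ∈ 𝒜 1) (hf : f ∈ 𝒜 1) {y : (Proj 𝒜 : Scheme.{u})} (hy : y ∈ D 𝒜 f)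
    (hya : y ∉ D 𝒜 a) (p : (DerSch.stalkFunctor (Proj 𝒜) y).obj (Twist.twist 𝒜 (-1))) :
    (DerSch.stalkFunctor (Proj 𝒜) y).map (PnDual.mulHom ha (show (0 : ℤ) = -1 + ((1 : ℕ) : ℤ) by norm_num)) p ∈
      IsLocalRing.maximalIdeal ((Proj 𝒜).presheaf.stalk y) •
        (⊤ : Submodule ((Proj 𝒜).presheaf.stalk y) ((DerSch.stalkFunctor (Proj 𝒜) y).obj (Twist.twist 𝒜 0))) := by
  let μ := PnDual.mulHom (𝒜 := 𝒜) ha (show (0 : ℤ) = -1 + ((1 : ℕ) : ℤ) by norm_num)
  let Φ := DerSch.stalkFunctor (Proj 𝒜) y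
  obtain ⟨r, hr⟩ := (stalkGen_bijective hf hy (0 : ℤ)).2 (Φ.map μ p)
  rw [LinearMap.toSpanSingleton_apply] at hr
  by_cases hu : IsUnit r
  · exfalso
    obtain ⟨u, rfl⟩ := hu
    have h1 : Φ.map μ ((↑u⁻¹ : (Proj 𝒜).presheaf.stalk y) • p) = stalkGen hf hy (0 : ℤ) := by
      refine ((Φ.map μ).hom.map_smul _ _).trans ?_
      refine (congrArg (fun z => (↑u⁻¹ : (Proj 𝒜).presheaf.stalk y) • z) hr.symm).trans ?_
      rw [smul_smul, Units.inv_mul, one_smul]
    obtain ⟨W₀, hW₀, t₀, ht₀⟩ := (Twist.twist 𝒜 (-1)).presheaf.exists_germ_eq ((↑u⁻¹ : (Proj 𝒜).presheaf.stalk y) • p)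
    let W := W₀ ⊓ D 𝒜 f
    have hxW : y ∈ W := ⟨hW₀, hy⟩
    rw [← ht₀, ← (Twist.twist 𝒜 (-1)).presheaf.germ_res_apply (homOfLE (inf_le_left : W ≤ W₀)) y hxW] at h1
    generalize (Twist.twist 𝒜 (-1)).presheaf.map (homOfLE (inf_le_left : W ≤ W₀)).op t₀ = t at h1
    rw [stalkGen_eq hf hy 0 W inf_le_right hxW] at h1
    erw [DerSch.stalkFunctor_map_germ] at h1
    obtain ⟨W', hW', i, i', hii⟩ := TopCat.Presheaf.germ_eq (C := AddCommGrpCat.{u})
      (DCoh.toP.obj (Twist.twist 𝒜 0)).presheaf y hxW hxW (μ.app W t)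
      (twPow hf 0 (nonVan_of_le (inf_le_right : W ≤ D 𝒜 f))) h1
    have h2 := congrArg (fun q => ((show Twist.sectN (𝒜 := 𝒜) 0 (op W') from q).1 ⟨y, hW'⟩).1) hii
    change ((show Twist.sectN (𝒜 := 𝒜) 0 (op W) from μ.app W t).1 ⟨y, hxW⟩).1 =
      ((twPow hf 0 (nonVan_of_le (inf_le_right : W ≤ D 𝒜 f))).1 ⟨y, hxW⟩).1 at h2
    simp only [μ, PnDual.mulHom_app, PnDual.mulFracSect_apply, twPow_zero] at h2
    have h3 : IsUnit (PnDual.fracOne (show ProjectiveSpectrum 𝒜 from y) a : Twist.Loc 𝒜 (show ProjectiveSpectrum 𝒜 from y)) := by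
      refine isUnit_of_mul_isUnit_right (x := ((show Twist.sectN (𝒜 := 𝒜) (-1) (op W) from t).1 ⟨y, hxW⟩).1) ?_
      rw [h2]
      show IsUnit (Localization.mk (1 : A) _ : Twist.Loc 𝒜 (show ProjectiveSpectrum 𝒜 from y))
      convert isUnit_one using 1
      exact Localization.mk_one
    refine hya ?_
    show a ∈ (show ProjectiveSpectrum 𝒜 from y).asHomogeneousIdeal.toIdeal.primeCompl
    refine (IsLocalization.AtPrime.isUnit_to_map_iff (Twist.Loc 𝒜 (show ProjectiveSpectrum 𝒜 from y)) _ _).1 ?_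
    rw [← Localization.mk_one_eq_algebraMap]
    exact h3
  · rw [← hr]
    exact Submodule.smul_mem_smul ((IsLocalRing.mem_maximalIdeal _).2 hu) Submodule.mem_top

variable [IsIso (oneHom (𝒜 := 𝒜))]

theorem mem_smul_mulNat (ha : a ∈ 𝒜 1) (hf : f ∈ 𝒜 1) {y : (Proj 𝒜 : Scheme.{u})} (hy : y ∈ D 𝒜 f)
    (hya : y ∉ D 𝒜 a) (M : (Proj 𝒜).Modules) (p : (DerSch.stalkFunctor (Proj 𝒜) y).obj ((twistF (-1)).obj M)) :
    (DerSch.stalkFunctor (Proj 𝒜) y).map ((mulNat ha).app M) p ∈
      IsLocalRing.maximalIdeal ((Proj 𝒜).presheaf.stalk y) •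
        (⊤ : Submodule ((Proj 𝒜).presheaf.stalk y) ((DerSch.stalkFunctor (Proj 𝒜) y).obj M)) := by
  let μ := PnDual.mulHom (𝒜 := 𝒜) ha (show (0 : ℤ) = -1 + ((1 : ℕ) : ℤ) by norm_num)
  let Φ := DerSch.stalkFunctor (Proj 𝒜) y
  let η := (PnDual.twistFZeroIso (asIso (oneHom (𝒜 := 𝒜)))).hom.app M
  let e₁ := (KFlatLib.stalkTensorLeftIso M y).app (Twist.twist 𝒜 (-1))
  let e₀ := (KFlatLib.stalkTensorLeftIso M y).app (Twist.twist 𝒜 0)
  have h3 := HilbPoly.mem_smul_top_of_tensor (IsLocalRing.maximalIdeal ((Proj 𝒜).presheaf.stalk y))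
    (M := Φ.obj M) (Φ.map μ) (mem_smul_mulHom ha hf hy hya) (e₁.hom p)
  have h4 := Submodule.mem_map_of_mem (f := (Φ.map η).hom ∘ₗ e₀.inv.hom) h3
  rw [Submodule.map_smul''] at h4
  have h5 : Φ.map ((mulNat ha).app M) p = Φ.map η (e₀.inv ((Φ.obj M ◁ Φ.map μ) (e₁.hom p))) := by
    rw [mulNat, NatTrans.comp_app, Functor.map_comp]
    refine congrArg (fun q => Φ.map η q) ?_
    exact (e₀.hom_inv_id_apply _).symm.trans (congrArg e₀.inv
      (ConcreteCategory.congr_hom ((KFlatLib.stalkTensorLeftIso M y).hom.naturality μ) p))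
  rw [h5]
  exact Submodule.smul_mono le_rfl le_top h4

end Graded

variable {k : Type u} [Field k] {n : ℕ}

/-- If every section is a multiple of a linear form then there is no section. -/
theorem eq_zero_of_surjective_mulLin {F : (Proj (CohB1.polyGrading n k)).Modules} (hF : Coh.IsCoh F)
    (hass : ∀ x : (Proj (CohB1.polyGrading n k) : Scheme.{u}), Curv2.IsWeakAssPoint F x → ¬ IsClosed ({x} : Set _))
    {l : MvPolynomial (Fin (n + 1)) k} (hl : l ∈ CohB1.polyGrading n k 1)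
    (hsurjΓ : ∀ s : Γ(F, ⊤), ∃ t : Γ((twF (k := k) (n := n) (-1)).obj F, ⊤), ((mulLin hl).app F).app ⊤ t = s)
    (s : Γ(F, ⊤)) : s = 0 := by
  haveI : IsNoetherian (Proj (CohB1.polyGrading n k)) := Proj16.isNoetherian_proj _
  letI : (Proj (CohB1.polyGrading n k)).Over (Spec (CommRingCat.of k)) :=
    inferInstanceAs ((CohB1.ProjSpace n k).Over (Spec (CommRingCat.of k)))
  haveI : IsProper ((Proj (CohB1.polyGrading n k)) ↘ Spec (CommRingCat.of k)) := PnCoh.Chow.isProper_toSpec n k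
  refine AssPtX.eq_zero_of_germ hF.1 s fun x _ hx => ?_
  obtain ⟨y, hyx, hy⟩ : ∃ y, x ⤳ y ∧ y ∉ D (CohB1.polyGrading n k) l := by
    by_contra hcon
    push Not at hcon
    exact hass x hx (IntNum.isClosed_of_closure_subset_affine k
      (Proj.isAffineOpen_basicOpen (CohB1.polyGrading n k) l hl Nat.one_pos)
      fun y hy => hcon y (specializes_iff_mem_closure.2 hy))
  obtain ⟨i, hi⟩ := exists_mem_D (k := k) (n := n) y
  let ν : (twF (k := k) (n := n) (-1)).obj F ⟶ F := (mulLin (ProjRegular.coords_mem i)).app F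
  let μ : (twF (k := k) (n := n) (-1)).obj F ⟶ F := (mulLin hl).app F
  let Φ := DerSch.stalkFunctor (Proj (CohB1.polyGrading n k)) y
  haveI hν : IsIso (Φ.map ν) :=
    KFlatLib.isIso_stalk_of_restrict ν hi (isIso_restrict_mulNat (ProjRegular.coords_mem i) F)
  let 𝔪 := IsLocalRing.maximalIdeal ((Proj (CohB1.polyGrading n k)).presheaf.stalk y)
  have hμ : ∀ p, Φ.map μ p ∈ 𝔪 • (⊤ : Submodule ((Proj (CohB1.polyGrading n k)).presheaf.stalk y) (Φ.obj F)) :=
    mem_smul_mulNat hl (ProjRegular.coords_mem i) hi hy F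
  have hmem : ∀ (j : ℕ) (s : Γ(F, ⊤)), F.presheaf.germ ⊤ y trivial s ∈
      𝔪 ^ j • (⊤ : Submodule ((Proj (CohB1.polyGrading n k)).presheaf.stalk y) (Φ.obj F)) := by
    intro j
    induction j with
    | zero =>
      intro s
      rw [pow_zero, Ideal.one_eq_top, Submodule.top_smul]
      trivial
    | succ j ih =>
      intro s
      obtain ⟨t, ht⟩ := hsurjΓ s
      let q : Φ.obj ((twF (k := k) (n := n) (-1)).obj F) :=
        ((twF (k := k) (n := n) (-1)).obj F).presheaf.germ ⊤ y trivial t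
      have eν : Φ.map ν q = F.presheaf.germ ⊤ y trivial (ν.app ⊤ t) := DerSch.stalkFunctor_map_germ _ _ _ _ _
      have eμ : Φ.map μ q = F.presheaf.germ ⊤ y trivial s :=
        (DerSch.stalkFunctor_map_germ _ _ _ _ _).trans (congrArg _ ht)
      have h1 : Φ.map ν q ∈ 𝔪 ^ j • (⊤ : Submodule ((Proj (CohB1.polyGrading n k)).presheaf.stalk y) (Φ.obj F)) :=
        eν ▸ ih (ν.app ⊤ t)
      have h2 := Submodule.mem_map_of_mem (f := (inv (Φ.map ν)).hom) h1
      rw [Submodule.map_smul''] at h2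
      erw [IsIso.hom_inv_id_apply] at h2
      have h3 := Submodule.mem_map_of_mem (f := (Φ.map μ).hom) (Submodule.smul_mono le_rfl le_top h2)
      rw [Submodule.map_smul''] at h3
      rw [← eμ, pow_succ, ← smul_eq_mul, Submodule.smul_assoc]
      refine Submodule.smul_mono le_rfl ?_ h3
      rintro _ ⟨p, -, rfl⟩
      exact hμ p
  haveI : Module.Finite ((Proj (CohB1.polyGrading n k)).presheaf.stalk y) (Φ.obj F) := by
    haveI : SheafOfModules.IsFiniteType (R := (Proj (CohB1.polyGrading n k)).ringCatSheaf) F := hF.2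
    exact FDescent.finite_stalk F y
  have hzero : F.presheaf.germ ⊤ y trivial s = 0 := by
    have h1 : F.presheaf.germ ⊤ y trivial s ∈
        ⨅ j : ℕ, 𝔪 ^ j • (⊤ : Submodule ((Proj (CohB1.polyGrading n k)).presheaf.stalk y) (Φ.obj F)) :=
      (Submodule.mem_iInf _).2 fun j => hmem j s
    rw [Ideal.iInf_pow_smul_eq_bot_of_isLocalRing _ (IsLocalRing.maximalIdeal.isMaximal _).ne_top] at h1
    exact h1
  have h2 := F.presheaf.germ_stalkSpecializes_apply (U := ⊤)
    (show y ∈ (⊤ : (Proj (CohB1.polyGrading n k)).Opens) from trivial) hyx s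
  rw [hzero, map_zero] at h2
  exact h2.symm

/-- A monomorphism which does not lose sections hits every section. -/
theorem exists_preimage_of_finrank_le {Y : Scheme.{u}} [Y.Over (Spec (CommRingCat.of k))]
    [IsProper (Y ↘ Spec (CommRingCat.of k))] {A B : Y.Modules} (hA : Coh.IsCoh A) (hB : Coh.IsCoh B)
    (μ : A ⟶ B) [Mono μ] (hle : Module.finrank k (Coh.HH Y B 0) ≤ Module.finrank k (Coh.HH Y A 0))
    (s : Γ(B, ⊤)) : ∃ t : Γ(A, ⊤), μ.app ⊤ t = s := by
  haveI := CurveCohLib.finite_HH (k := k) hA 0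
  haveI := CurveCohLib.finite_HH (k := k) hB 0
  have hS := CurveSlope.shortExact_cokernel_of_mono μ
  have h := CurveCohLib.mapLin_f_zero_injective (X := Y) (S := ShortComplex.mk μ (cokernel.π μ) (cokernel.condition μ)) k hS
  have hinj : Function.Injective ⇑(mapLin k μ 0) := h
  have heq : Module.finrank k (Coh.HH Y A 0) = Module.finrank k (Coh.HH Y B 0) :=
    le_antisymm (LinearMap.finrank_le_finrank_of_injective (f := mapLin k μ 0) hinj) hle
  have hsurj : Function.Surjective ⇑(mapLin k μ 0) :=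
    (LinearMap.injective_iff_surjective_of_finrank_eq_finrank heq (f := mapLin k μ 0)).1 hinj
  obtain ⟨v, hv⟩ := hsurj ((Sheaf.H.equiv₀ (Coh.toAb B) isTerminalTop).symm s)
  refine ⟨Sheaf.H.equiv₀ (Coh.toAb A) isTerminalTop v, ?_⟩
  refine (Sheaf.H.equiv₀_naturality isTerminalTop ((QCoh.toAbFunctor _).map μ) v).trans ?_
  exact (congrArg (Sheaf.H.equiv₀ (Coh.toAb B) isTerminalTop) hv).trans (AddEquiv.apply_symm_apply _ _)

/-- One twist down loses a section. -/
theorem h0_twist_lt [Infinite k] {F : (CohB1.ProjSpace n k).Modules} (hF : Coh.IsCoh F)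
    (hass : ∀ x : (CohB1.ProjSpace n k : Scheme.{u}), Curv2.IsWeakAssPoint F x → ¬ IsClosed ({x} : Set _))
    (h0 : 1 ≤ Module.finrank k (Coh.HH (CohB1.ProjSpace n k) F 0)) :
    Module.finrank k (Coh.HH (CohB1.ProjSpace n k) (CohB1.tensorMod F (Twist.twistProjSpace n k (-1))) 0) <
      Module.finrank k (Coh.HH (CohB1.ProjSpace n k) F 0) := by
  haveI : IsProper ((CohB1.ProjSpace n k) ↘ Spec (CommRingCat.of k)) := PnCoh.Chow.isProper_toSpec n k
  have hF' : Coh.IsCoh (CohB1.tensorMod F (Twist.twistProjSpace n k (-1))) := ProjRegular.isCoh_twistBy hF (-1)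
  obtain ⟨l, hl, hmono, -⟩ := exists_regular_mulLin F hF hF
  refine lt_of_not_ge fun hle => ?_
  let μ : CohB1.tensorMod F (Twist.twistProjSpace n k (-1)) ⟶ F := (mulLin hl).app F
  haveI : Mono μ := hmono
  have hsurj : ∀ s : Γ(F, ⊤), ∃ t, μ.app ⊤ t = s :=
    exists_preimage_of_finrank_le (Y := CohB1.ProjSpace n k) hF' hF μ hle
  have hz := eq_zero_of_surjective_mulLin (k := k) (n := n) hF hass hl hsurj
  haveI : Subsingleton (Coh.HH (CohB1.ProjSpace n k) F 0) :=
    ⟨fun v w => (Sheaf.H.equiv₀ (Coh.toAb F) isTerminalTop).injective ((hz _).trans (hz _).symm)⟩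
  rw [Module.finrank_zero_of_subsingleton] at h0
  omega

theorem h0_twist_le [Infinite k] {F : (CohB1.ProjSpace n k).Modules} (hF : Coh.IsCoh F)
    (hass : ∀ x : (CohB1.ProjSpace n k : Scheme.{u}), Curv2.IsWeakAssPoint F x → ¬ IsClosed ({x} : Set _)) :
    Module.finrank k (Coh.HH (CohB1.ProjSpace n k) (CohB1.tensorMod F (Twist.twistProjSpace n k (-1))) 0) ≤
      Module.finrank k (Coh.HH (CohB1.ProjSpace n k) F 0) - 1 := by
  by_cases h1 : 1 ≤ Module.finrank k (Coh.HH (CohB1.ProjSpace n k) F 0)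
  · exact Nat.le_sub_one_of_lt (h0_twist_lt hF hass h1)
  · haveI : IsNoetherian (CohB1.ProjSpace n k) := Proj16.isNoetherian_proj _
    haveI : IsProper ((CohB1.ProjSpace n k) ↘ Spec (CommRingCat.of k)) := PnCoh.Chow.isProper_toSpec n k
    obtain ⟨l, hl, hmono, -⟩ := exists_regular_mulLin F hF hF
    haveI := CurveCohLib.finite_HH (k := k) hF 0
    let μ : CohB1.tensorMod F (Twist.twistProjSpace n k (-1)) ⟶ F := (mulLin hl).app F
    haveI : Mono μ := hmono
    have h := CurveCohLib.mapLin_f_zero_injective (A := k) (CurveSlope.shortExact_cokernel_of_mono μ)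
    have h2 : Module.finrank k (Coh.HH (CohB1.ProjSpace n k) (CohB1.tensorMod F (Twist.twistProjSpace n k (-1))) 0) ≤
        Module.finrank k (Coh.HH (CohB1.ProjSpace n k) F 0) := LinearMap.finrank_le_finrank_of_injective h
    omega

/-- Twists below `-h⁰` have no sections. -/
theorem subsingleton_h0_twist [Infinite k] {F : (CohB1.ProjSpace n k).Modules} (hF : Coh.IsCoh F)
    (hass : ∀ x : (CohB1.ProjSpace n k : Scheme.{u}), Curv2.IsWeakAssPoint F x → ¬ IsClosed ({x} : Set _))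
    (j : ℕ) (hj : Module.finrank k (Coh.HH (CohB1.ProjSpace n k) F 0) ≤ j) :
    Subsingleton (Coh.HH (CohB1.ProjSpace n k) (CohB1.tensorMod F (Twist.twistProjSpace n k (-(j : ℤ)))) 0) := by
  haveI : IsNoetherian (CohB1.ProjSpace n k) := Proj16.isNoetherian_proj _
  haveI : IsProper ((CohB1.ProjSpace n k) ↘ Spec (CommRingCat.of k)) := PnCoh.Chow.isProper_toSpec n k
  have hF' : Coh.IsCoh (CohB1.tensorMod F (Twist.twistProjSpace n k (-(j : ℤ)))) := ProjRegular.isCoh_twistBy hF _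
  haveI := CurveCohLib.finite_HH (k := k) hF' 0
  suffices h : ∀ j : ℕ, Module.finrank k (Coh.HH (CohB1.ProjSpace n k)
      (CohB1.tensorMod F (Twist.twistProjSpace n k (-(j : ℤ)))) 0) ≤
        Module.finrank k (Coh.HH (CohB1.ProjSpace n k) F 0) - j by
    exact Module.finrank_zero_iff.1 (Nat.le_zero.1 ((h j).trans (le_of_eq (Nat.sub_eq_zero_of_le hj))))
  intro j
  induction j with
  | zero =>
    refine le_of_eq ?_
    rw [Nat.cast_zero, neg_zero, Nat.sub_zero]
    exact (RegDescent.HHequiv (k := k)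
      ((PnDual.twistFZeroIso (asIso (oneHom (𝒜 := CohB1.polyGrading n k)))).app F) 0).finrank_eq
  | succ j ih =>
    obtain ⟨e⟩ := ProjRegular.twist_twist_iso F (-(j : ℤ)) (-1)
    rw [show (-(j : ℤ)) + -1 = -((j + 1 : ℕ) : ℤ) by push_cast; ring] at e
    have hG := ProjRegular.isCoh_twistBy hF (-(j : ℤ))
    have hassG : ∀ x : (CohB1.ProjSpace n k : Scheme.{u}),
        Curv2.IsWeakAssPoint (CohB1.tensorMod F (Twist.twistProjSpace n k (-(j : ℤ)))) x → ¬ IsClosed ({x} : Set _) :=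
      fun x hx => hass x (IntNum.isWeakAssPoint_of_tensor_invertible
        (isInvertible_twist (ProjRegular.coords k n) ProjRegular.coords_mem ProjRegular.coords_cover _) hx)
    refine le_of_eq_of_le (RegDescent.HHequiv (k := k) (X := CohB1.ProjSpace n k) e 0).finrank_eq.symm ?_
    have key := h0_twist_le hG hassG
    refine key.trans ?_
    exact (Nat.sub_le_sub_right ih 1).trans (le_of_eq (Nat.sub_sub _ _ _))

end Groth.Agent.Bounded
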