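import Groth.Agent.Bounded.Regular
import Groth.Agent.KZ.CohClass

/-!
Families of modules presented by maps between two fixed coherent modules.
-/

set_option linter.style.haveILetI false
set_option linter.unusedSectionVars false
set_option backward.isDefEq.respectTransparency false
set_option backward.isDefEq.respectTransparency.types false
set_option maxHeartbeats 1000000

universe u

open CategoryTheory CategoryTheory.Limits AlgebraicGeometry TopologicalSpace Opposite

noncomputable section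

namespace Groth.Agent.Bounded

variable {X : Scheme.{u}}

/-- Every member is a cokernel of a map between two fixed coherent modules. -/
def IsPresented (P : X.Modules → Prop) : Prop :=
  ∃ A B : X.Modules, Coh.IsCoh A ∧ Coh.IsCoh B ∧ ∀ L, P L → ∃ φ : A ⟶ B, Nonempty (cokernel φ ≅ L)

section Abelian

variable {C : Type*} [Category C] [Abelian C] {A A' B B' : C}

/-- The cokernel is unchanged by an invertible block and a zero block. -/
def cokerBlockIso (φ : A ⟶ B) :
    cokernel (biprod.desc (biprod.map φ (𝟙 B')) (0 : A' ⟶ B ⊞ B')) ≅ cokernel φ where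
  hom := cokernel.desc _ (biprod.fst ≫ cokernel.π φ) (by
    apply biprod.hom_ext'
    · rw [← Category.assoc, biprod.inl_desc, comp_zero, ← Category.assoc, biprod.map_fst, Category.assoc,
        cokernel.condition, comp_zero]
    · simp)
  inv := cokernel.desc _ (biprod.inl ≫ cokernel.π _) (by
    have e1 : φ ≫ (biprod.inl : B ⟶ B ⊞ B') =
        biprod.inl ≫ biprod.inl ≫ biprod.desc (biprod.map φ (𝟙 B')) (0 : A' ⟶ B ⊞ B') := by simp
    rw [← Category.assoc, e1, Category.assoc, Category.assoc, cokernel.condition, comp_zero, comp_zero])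
  hom_inv_id := by
    apply coequalizer.hom_ext
    apply biprod.hom_ext'
    · simp
    · have e2 : (biprod.inr : B' ⟶ B ⊞ B') =
          biprod.inr ≫ biprod.inl ≫ biprod.desc (biprod.map φ (𝟙 B')) (0 : A' ⟶ B ⊞ B') := by simp
      have h : (biprod.inr : B' ⟶ B ⊞ B') ≫
          cokernel.π (biprod.desc (biprod.map φ (𝟙 B')) (0 : A' ⟶ B ⊞ B')) = 0 := by
        rw [e2, Category.assoc, Category.assoc, cokernel.condition, comp_zero, comp_zero]
      simp [h]
  inv_hom_id := by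
    apply coequalizer.hom_ext
    simp

end Abelian

theorem isCoh_biprod' [IsLocallyNoetherian X] {A B : X.Modules} (hA : Coh.IsCoh A) (hB : Coh.IsCoh B) :
    Coh.IsCoh (A ⊞ B) :=
  (KZ.isCoh_X₂ (S := ShortComplex.mk (biprod.inl : A ⟶ A ⊞ B) biprod.snd biprod.inl_snd)
    (ShortComplex.Splitting.ofHasBinaryBiproduct A B).shortExact hA hB)

theorem IsPresented.union [IsLocallyNoetherian X] {P Q : X.Modules → Prop}
    (hP : IsPresented P) (hQ : IsPresented Q) : IsPresented (fun L => P L ∨ Q L) := by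
  obtain ⟨A, B, hA, hB, hP⟩ := hP
  obtain ⟨A', B', hA', hB', hQ⟩ := hQ
  refine ⟨(A ⊞ B') ⊞ (A' ⊞ B), B ⊞ B', isCoh_biprod' (isCoh_biprod' hA hB') (isCoh_biprod' hA' hB),
    isCoh_biprod' hB hB', fun L hL => ?_⟩
  rcases hL with hL | hL
  · obtain ⟨φ, ⟨e⟩⟩ := hP L hL
    exact ⟨_, ⟨cokerBlockIso (A' := A' ⊞ B) φ ≪≫ e⟩⟩
  · obtain ⟨φ, ⟨e⟩⟩ := hQ L hL
    let σ : B' ⊞ B ≅ B ⊞ B' := biprod.braiding B' B
    let τ : (A ⊞ B') ⊞ (A' ⊞ B) ≅ (A' ⊞ B) ⊞ (A ⊞ B') := biprod.braiding _ _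
    exact ⟨τ.hom ≫ biprod.desc (biprod.map φ (𝟙 B)) (0 : A ⊞ B' ⟶ B' ⊞ B) ≫ σ.hom,
      ⟨cokernelEpiComp _ _ ≪≫ cokernelCompIsIso _ _ ≪≫ cokerBlockIso φ ≪≫ e⟩⟩

theorem IsPresented.mono {P Q : X.Modules → Prop} (hP : IsPresented P) (h : ∀ L, Q L → P L) : IsPresented Q := by
  obtain ⟨A, B, hA, hB, hP⟩ := hP
  exact ⟨A, B, hA, hB, fun L hL => hP L (h L hL)⟩

theorem IsPresented.empty [IsLocallyNoetherian X] : IsPresented (fun _ : X.Modules => False) :=
  ⟨Coh.structureModule X, Coh.structureModule X, QCoh.isCoh_structureModule', QCoh.isCoh_structureModule',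
    fun _ h => h.elim⟩

theorem IsPresented.finiteUnion [IsLocallyNoetherian X] {σ : Type*} {Φ : Set σ} (hΦ : Φ.Finite)
    {P : σ → X.Modules → Prop} (h : ∀ f ∈ Φ, IsPresented (P f)) : IsPresented (fun L => ∃ f ∈ Φ, P f L) := by
  induction Φ, hΦ using Set.Finite.induction_on with
  | empty => exact IsPresented.empty.mono fun L ⟨f, hf, _⟩ => hf
  | insert _ _ ih =>
    refine ((h _ (Set.mem_insert _ _)).union (ih fun f hf => h f (Set.mem_insert_of_mem _ hf))).mono ?_
    rintro L ⟨f, (rfl | hf), hL⟩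
    · exact Or.inl hL
    · exact Or.inr ⟨f, hf, hL⟩

theorem IsPresented.isBounded {k : Type u} [Field k] [X.Over (Spec (CommRingCat.of k))]
    [IsProper (X ↘ Spec (CommRingCat.of k))] {P : X.Modules → Prop} (hP : IsPresented P) :
    Pic13.IsBounded k X P := by
  obtain ⟨A, B, hA, hB, hP⟩ := hP
  obtain ⟨T, q, h1, h2, F, hF, h⟩ := isBounded_cokernel k X hA hB
  exact ⟨T, q, h1, h2, F, hF, fun L hL => h L (hP L hL)⟩

/-- Restriction to a closed subscheme. -/
theorem IsPresented.restrict {Y : Scheme.{u}} (ι : X ⟶ Y) [IsClosedImmersion ι]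
    {P : Y.Modules → Prop} (hP : IsPresented P) :
    IsPresented (fun F : X.Modules => Coh.IsQCoh F ∧ P ((Scheme.Modules.pushforward ι).obj F)) := by
  obtain ⟨A, B, hA, hB, hP⟩ := hP
  refine ⟨(Scheme.Modules.pullback ι).obj A, (Scheme.Modules.pullback ι).obj B,
    ⟨QCoh.isQCoh_pullback ι hA.1, QCoh.isFT_pullback ι hA.1 hA.2⟩,
    ⟨QCoh.isQCoh_pullback ι hB.1, QCoh.isFT_pullback ι hB.1 hB.2⟩, fun F ⟨hF, hPF⟩ => ?_⟩
  obtain ⟨φ, ⟨e⟩⟩ := hP _ hPF
  haveI := (Scheme.Modules.pullbackPushforwardAdjunction ι).leftAdjoint_preservesColimits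
  haveI := QCohSupX.isIso_counit_closed ι hF
  exact ⟨(Scheme.Modules.pullback ι).map φ, ⟨(PreservesCokernel.iso (Scheme.Modules.pullback ι) φ).symm ≪≫
    (Scheme.Modules.pullback ι).mapIso e ≪≫
      asIso ((Scheme.Modules.pullbackPushforwardAdjunction ι).counit.app F)⟩⟩

open Groth.Agent.UnifReg in
/-- Regular modules with given Hilbert function. -/
theorem isPresented_regular (k : Type u) [Field k] (n : ℕ) (m : ℤ) (χ₀ : ℕ → ℤ) :
    IsPresented (fun F : (CohB1.ProjSpace n k).Modules =>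
      Coh.IsCoh F ∧ Curv2.IsMRegular k n F m ∧ ∀ t : ℕ, chi F t = χ₀ t) := by
  obtain ⟨A, B, hA, hB, h⟩ := exists_presentation k n m χ₀
  exact ⟨A, B, hA, hB, fun F ⟨h1, h2, h3⟩ => h F h1 h2 h3⟩

end Groth.Agent.Bounded
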