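import Groth.Agent.Bounded.Family

/-!
Regular modules on a closed subscheme as quotients of sums of a negative twist.
-/

set_option linter.style.haveILetI false
set_option linter.unusedSectionVars false
set_option backward.isDefEq.respectTransparency false
set_option backward.isDefEq.respectTransparency.types false
set_option maxHeartbeats 1000000

universe u

open CategoryTheory CategoryTheory.Limits AlgebraicGeometry TopologicalSpace Opposite
open Groth.Agent.RegEpi

noncomputable section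

namespace Groth.Agent.Bounded

theorem exists_epi_freeMod_le {X : Scheme.{u}} {N' N : ℕ} (h : N' ≤ N) :
    ∃ r : FlatMod.freeMod X N ⟶ FlatMod.freeMod X N', Epi r := by
  let s : FlatMod.freeMod X N' ⟶ FlatMod.freeMod X N := Sigma.desc fun i => H23.Frame.incl X N (Fin.castLE h i)
  let r : FlatMod.freeMod X N ⟶ FlatMod.freeMod X N' :=
    Sigma.desc fun i => if hi : (i : ℕ) < N' then H23.Frame.incl X N' ⟨i, hi⟩ else 0
  have hsr : s ≫ r = 𝟙 _ := by
    refine Sigma.hom_ext _ _ fun i => ?_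
    show H23.Frame.incl X N' i ≫ s ≫ r = H23.Frame.incl X N' i ≫ 𝟙 _
    rw [← Category.assoc, show H23.Frame.incl X N' i ≫ s = _ from Sigma.ι_desc _ _,
      show H23.Frame.incl X N (Fin.castLE h i) ≫ r = _ from Sigma.ι_desc _ _, Category.comp_id]
    simp
  exact ⟨r, (IsSplitEpi.mk' ⟨s, hsr⟩).epi⟩

theorem exists_cofan_of_functor {X : Scheme.{u}} (G : X.Modules ⥤ X.Modules) [G.IsEquivalence] (N : ℕ)
    (O : X.Modules) : ∃ c : Fin N → (G.obj O ⟶ G.obj (∐ fun _ : Fin N => O)),
      Nonempty (IsColimit (Cofan.mk (G.obj (∐ fun _ : Fin N => O)) c)) :=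
  ⟨fun j => G.map (Sigma.ι (fun _ : Fin N => O) j),
    ⟨isColimitCofanMkObjOfIsColimit G _ (Sigma.ι (fun _ : Fin N => O)) (coproductIsCoproduct _)⟩⟩

theorem exists_cofan_tw {X : Scheme.{u}} {L : X.Modules} (hL : PicF.IsInvertible L) (N : ℕ) :
    ∃ c : Fin N → ((AmpleVan.tw L).obj (Coh.structureModule X) ⟶ (AmpleVan.tw L).obj (FlatMod.freeMod X N)),
      Nonempty (IsColimit (Cofan.mk ((AmpleVan.tw L).obj (FlatMod.freeMod X N)) c)) :=
  @exists_cofan_of_functor X (AmpleVan.tw L) (AmpleVan.isEquivalence_tw hL) N (Coh.structureModule X)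

variable {k : Type u} [Field k] {n : ℕ} {X : Scheme.{u}} (ι : X ⟶ CohB1.ProjSpace n k) [IsClosedImmersion ι]

theorem exists_epi_twist_free {G : X.Modules} (hG : Coh.IsCoh G) {m : ℤ}
    (hreg : Curv2.IsMRegular k n ((Scheme.Modules.pushforward ι).obj G) m) {N : ℕ}
    (hN : UnifReg.chi ((Scheme.Modules.pushforward ι).obj G) m ≤ (N : ℤ)) :
    ∃ p : (AmpleVan.tw ((Scheme.Modules.pullback ι).obj (Twist.twistProjSpace n k (-m)))).obj (FlatMod.freeMod X N) ⟶ G,
      Epi p := by
  haveI : IsNoetherian (CohB1.ProjSpace n k) := Proj16.isNoetherian_proj _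
  have hP := QCoh.isCoh_pushforward_finite ι hG
  obtain ⟨N', hN'⟩ : ∃ N' : ℕ, UnifReg.chi ((Scheme.Modules.pushforward ι).obj G) m = (N' : ℤ) :=
    ⟨_, finrank_eq_chi hP hreg⟩
  obtain ⟨p, hp⟩ := exists_epi_twist hP hreg hN'
  obtain ⟨r, hr⟩ := exists_epi_freeMod_le (X := CohB1.ProjSpace n k) (show N' ≤ N by omega)
  obtain ⟨e⟩ := nonempty_twist_neg ((Scheme.Modules.pushforward ι).obj G) m
  haveI := hp
  haveI := hr
  haveI : Epi (r ≫ p) := epi_comp _ _
  haveI : Epi ((twF (k := k) (n := n) (-m)).map (r ≫ p)) := inferInstance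
  let φ : CohB1.tensorMod (FlatMod.freeMod (CohB1.ProjSpace n k) N) (Twist.twistProjSpace n k (-m)) ⟶
      (Scheme.Modules.pushforward ι).obj G := (twF (k := k) (n := n) (-m)).map (r ≫ p) ≫ e.hom
  haveI hφ : Epi φ := epi_comp _ _
  haveI := (Scheme.Modules.pullbackPushforwardAdjunction ι).leftAdjoint_preservesColimits
  haveI : Epi ((Scheme.Modules.pullback ι).map φ) := inferInstance
  haveI := QCohSupX.isIso_counit_closed ι hG.1
  obtain ⟨a⟩ := H23.PicMul.pull ι (FlatMod.freeMod (CohB1.ProjSpace n k) N) (Twist.twistProjSpace n k (-m))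
  let b : (AmpleVan.tw ((Scheme.Modules.pullback ι).obj (Twist.twistProjSpace n k (-m)))).obj (FlatMod.freeMod X N) ≅
      (Scheme.Modules.pullback ι).obj (CohB1.tensorMod (FlatMod.freeMod (CohB1.ProjSpace n k) N) (Twist.twistProjSpace n k (-m))) :=
    (AmpleVan.tw ((Scheme.Modules.pullback ι).obj (Twist.twistProjSpace n k (-m)))).mapIso (KFlatLib.pullFreeIso ι N).symm ≪≫ a.symm
  exact ⟨b.hom ≫ (Scheme.Modules.pullback ι).map φ ≫ (Scheme.Modules.pullbackPushforwardAdjunction ι).counit.app G,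
    epi_comp _ _⟩

end Groth.Agent.Bounded
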