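import Groth.Agent.Bounded.Presented

/-!
Quotients of a fixed coherent module with finitely many Hilbert functions.
-/

set_option linter.style.haveILetI false
set_option linter.unusedSectionVars false
set_option backward.isDefEq.respectTransparency false
set_option backward.isDefEq.respectTransparency.types false
set_option maxHeartbeats 1000000

universe u

open CategoryTheory CategoryTheory.Limits AlgebraicGeometry TopologicalSpace Opposite
open Groth.Agent.UnifReg Groth.Agent.RegEpi

noncomputable section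

namespace Groth.Agent.Bounded

variable {k : Type u} [Field k] {n : ℕ}

/-- Every coherent module on projective space is regular somewhere. -/
theorem exists_isMRegular {E : (CohB1.ProjSpace n k).Modules} (hE : Coh.IsCoh E) :
    ∃ m : ℤ, Curv2.IsMRegular k n E m := by
  letI : (Proj (CohB1.polyGrading n k)).Over (Spec (CommRingCat.of k)) :=
    inferInstanceAs ((CohB1.ProjSpace n k).Over (Spec (CommRingCat.of k)))
  choose d hd using fun i : ℕ => RegDescent.exists_vanishing_twF (k := k) hE (i + 1) (Nat.succ_pos i)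
  refine ⟨((Finset.range (n + 1)).sum fun i => |d i|) + n, fun i hi hin => ?_⟩
  obtain ⟨j, rfl⟩ : ∃ j, i = j + 1 := ⟨i - 1, by omega⟩
  refine hd j _ ?_
  have h1 : |d j| ≤ (Finset.range (n + 1)).sum fun i => |d i| :=
    Finset.single_le_sum (f := fun i => |d i|) (fun i _ => abs_nonneg _) (Finset.mem_range.2 (by omega))
  have h2 := le_abs_self (d j)
  push_cast
  omega

theorem isMRegular_of_twist {F : (CohB1.ProjSpace n k).Modules} {c m : ℤ}
    (h : Curv2.IsMRegular k n (CohB1.tensorMod F (Twist.twistProjSpace n k c)) m) :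
    Curv2.IsMRegular k n F (c + m) := fun i hi hin => by
  obtain ⟨e⟩ := ProjRegular.twist_twist_iso F c (m - (i : ℤ))
  rw [show c + m - (i : ℤ) = c + (m - i) by ring]
  exact QCoh.subsingleton_HH_of_iso e i (h i hi hin)

theorem chi_eq_eulerCharLE {F : (CohB1.ProjSpace n k).Modules} (hF : Coh.IsCoh F) (j : ℤ) :
    chi F j = FGA.eulerCharLE k (CohB1.ProjSpace n k) (CohB1.tensorMod F (Twist.twistProjSpace n k j)) n :=
  CurveCohLib.euler_eq_sum (N := n + 1) fun i hi => ProjRegular.subsingleton_HH_high hF j i (by omega)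

/-- Quotients of a coherent module with Hilbert function in a finite set. -/
theorem isPresented_quotients {E : (CohB1.ProjSpace n k).Modules} (hE : Coh.IsCoh E) {Φ : Set (ℤ → ℤ)} (hΦ : Φ.Finite) :
    IsPresented (fun F : (CohB1.ProjSpace n k).Modules =>
      Coh.IsCoh F ∧ (∃ p : E ⟶ F, Epi p) ∧ ∃ f ∈ Φ, ∀ r : ℤ, chi F r = f r) := by
  haveI hP : IsNoetherian (CohB1.ProjSpace n k) := Proj16.isNoetherian_proj _
  obtain ⟨c, hc⟩ := exists_isMRegular hE
  obtain ⟨M, hM⟩ : ∃ M : ℕ, chi E c = (M : ℤ) := ⟨_, finrank_eq_chi hE hc⟩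
  obtain ⟨p₀, hp₀⟩ := exists_epi_twist hE hc hM
  choose m hm using fun f : ℤ → ℤ => exists_uniform_regularity'.{u} n M fun t => f (c + t)
  refine (IsPresented.finiteUnion hΦ (P := fun f F => Coh.IsCoh F ∧ Curv2.IsMRegular k n F (c + m f) ∧
    ∀ t : ℕ, chi F t = f t) fun f _ => isPresented_regular k n (c + m f) fun t => f t).mono ?_
  rintro F ⟨hF, ⟨p, hp⟩, f, hf, hχ⟩
  haveI := hp₀
  haveI := hp
  haveI : PreservesColimitsOfSize.{0, 0} (twF (k := k) (n := n) c) := inferInstance
  haveI : Epi ((twF (k := k) (n := n) c).map p) := inferInstance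
  have h := (hm f k _ (p₀ ≫ (twF (k := k) (n := n) c).map p) (ProjRegular.isCoh_twistBy hF c) (epi_comp _ _)
    fun t => (chi_twist F c t).trans (hχ _)).2
  exact ⟨f, hf, hF, isMRegular_of_twist h, fun t => hχ t⟩

end Groth.Agent.Bounded
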