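import Groth.Agent.Bounded.Cokernel
import Groth.Agent.UnifReg.Closed
import Groth.Agent.CurveDefAmple.Basic

/-!
Regular modules with given Hilbert function form a bounded family.
-/

set_option linter.style.haveILetI false
set_option linter.unusedSectionVars false
set_option backward.isDefEq.respectTransparency false
set_option backward.isDefEq.respectTransparency.types false
set_option maxHeartbeats 1000000

universe u

open CategoryTheory CategoryTheory.Limits AlgebraicGeometry TopologicalSpace Opposite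
open Groth.Agent.PnCoh.Finite (mapLin)

noncomputable section

namespace Groth.Agent.Bounded

section Sections

variable (k : Type u) [Field k] {X : Scheme.{u}} [X.Over (Spec (CommRingCat.of k))]
  [IsProper (X ↘ Spec (CommRingCat.of k))]

include k in
/-- A globally generated coherent module is a quotient of the free module on its sections. -/
theorem exists_epi_finrank {M : X.Modules} (hc : Coh.IsCoh M) (hM : Curv2.IsGloballyGenerated M) :
    ∃ p : FlatMod.freeMod X (Module.finrank k (Coh.HH X M 0)) ⟶ M, Epi p := by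
  haveI := CurveCohLib.finite_HH (k := k) hc 0
  let b := Module.finBasis k (Coh.HH X M 0)
  let σ : Fin (Module.finrank k (Coh.HH X M 0)) → (Coh.structureModule X ⟶ M) := fun i =>
    QCoh.homOfTop (Sheaf.H.equiv₀ (Coh.toAb M) isTerminalTop (b i))
  refine ⟨Sigma.desc σ, Preadditive.epi_of_cancel_zero _ fun {T} g hg => ?_⟩
  have hσ : ∀ i, mapLin k g 0 (b i) = 0 := fun i => by
    have h1 : σ i ≫ g = 0 := by
      have := congrArg (fun φ => Sigma.ι (fun _ : Fin (Module.finrank k (Coh.HH X M 0)) => Coh.structureModule X) i ≫ φ) hg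
      simpa using this
    refine (Sheaf.H.equiv₀ (Coh.toAb T) isTerminalTop).injective ?_
    rw [map_zero]
    refine (Sheaf.H.equiv₀_naturality isTerminalTop ((QCoh.toAbFunctor X).map g) (b i)).symm.trans ?_
    have h0 := congrArg (fun φ => Scheme.Modules.Hom.app φ ⊤ (1 : Γ(X, ⊤))) h1
    refine Eq.trans ?_ h0
    show g.app ⊤ _ = g.app ⊤ ((σ i).app ⊤ (1 : Γ(X, ⊤)))
    rw [QCoh.homOfTop_app, one_smul]
    congr 1
    exact (ConcreteCategory.congr_hom (M.presheaf.map_id _) _).symm
  have hall : mapLin k g 0 = 0 := b.ext fun i => by simpa using hσ i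
  exact CurveCohLib.PointTwist.eq_zero_of_gg k hM g fun t => LinearMap.congr_fun hall t

end Sections

open Groth.Agent.UnifReg Groth.Agent.RegEpi

variable {k : Type u} [Field k] {n : ℕ}

theorem finrank_eq_chi {G : (CohB1.ProjSpace n k).Modules} (hG : Coh.IsCoh G) {m : ℤ}
    (hreg : Curv2.IsMRegular k n G m) :
    chi G m = Module.finrank k (Coh.HH (CohB1.ProjSpace n k) (CohB1.tensorMod G (Twist.twistProjSpace n k m)) 0) := by
  rw [chi, CurveCohLib.euler_eq_sum (N := 1) fun i hi => subsingleton_HH_of_reg hG hreg hi (by omega)]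
  simp

theorem exists_epi_twist {G : (CohB1.ProjSpace n k).Modules} (hG : Coh.IsCoh G) {m : ℤ}
    (hreg : Curv2.IsMRegular k n G m) {N : ℕ} (hN : chi G m = (N : ℤ)) :
    ∃ p : FlatMod.freeMod (CohB1.ProjSpace n k) N ⟶ CohB1.tensorMod G (Twist.twistProjSpace n k m), Epi p := by
  haveI : IsProper ((CohB1.ProjSpace n k) ↘ Spec (CommRingCat.of k)) := PnCoh.Chow.isProper_toSpec n k
  obtain ⟨p, hp⟩ := exists_epi_finrank k (ProjRegular.isCoh_twistBy hG m) (S1647.result k n G hG m hreg)
  have h := finrank_eq_chi hG hreg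
  rw [hN, Int.natCast_inj] at h
  rw [h]
  exact ⟨p, hp⟩

theorem nonempty_twist_neg (G : (Proj (CohB1.polyGrading n k)).Modules) (m : ℤ) :
    Nonempty ((twF (k := k) (n := n) (-m)).obj ((twF m).obj G) ≅ G) := by
  obtain ⟨e⟩ := ProjRegular.twist_twist_iso G m (-m)
  rw [add_neg_cancel] at e
  exact ⟨e ≪≫ (PnDual.twistFZeroIso (asIso (PnCoh.Finite.oneHom (𝒜 := CohB1.polyGrading n k)))).app G⟩

variable (k n) in
/-- Regular modules with given Hilbert function are cokernels of maps of fixed modules. -/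
theorem exists_presentation (m : ℤ) (χ₀ : ℕ → ℤ) :
    ∃ A B : (CohB1.ProjSpace n k).Modules, Coh.IsCoh A ∧ Coh.IsCoh B ∧
      ∀ F : (CohB1.ProjSpace n k).Modules, Coh.IsCoh F → Curv2.IsMRegular k n F m →
        (∀ t : ℕ, chi F t = χ₀ t) → ∃ φ : A ⟶ B, Nonempty (cokernel φ ≅ F) := by
  let a : ℕ := m.toNat
  let N : ℕ := (χ₀ a).toNat
  obtain ⟨m₁, hm₁⟩ := exists_uniform_regularity'.{u} n N fun t => χ₀ (a + t)
  let b : ℤ := max m₁ 0
  let r : ℕ := (chi (FlatMod.freeMod (CohB1.ProjSpace n k) N) b - χ₀ (a + b.toNat)).toNat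
  refine ⟨(twF (-(a : ℤ))).obj ((twF (-b)).obj (FlatMod.freeMod (CohB1.ProjSpace n k) r)),
    (twF (-(a : ℤ))).obj (FlatMod.freeMod (CohB1.ProjSpace n k) N),
    ProjRegular.isCoh_twistBy (ProjRegular.isCoh_twistBy (isCoh_freeMod r) _) _,
    ProjRegular.isCoh_twistBy (isCoh_freeMod N) _, fun F hF hreg hχ => ?_⟩
  have hFa := isMRegular_of_le hF (show m ≤ (a : ℤ) by omega) hreg
  have hN : chi F (a : ℤ) = (N : ℤ) := by
    have := finrank_eq_chi hF hFa
    rw [hχ] at this ⊢
    omega
  obtain ⟨p, hp⟩ := exists_epi_twist hF hFa hN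
  have hG := ProjRegular.isCoh_twistBy hF (a : ℤ)
  have hχG : ∀ t : ℕ, chi (CohB1.tensorMod F (Twist.twistProjSpace n k (a : ℤ))) t = χ₀ (a + t) := fun t => by
    rw [chi_twist, ← hχ, Nat.cast_add]
  obtain ⟨hK, -⟩ := hm₁ k _ p hG hp hχG
  have cK := isCoh_kernel' p (isCoh_freeMod N) hG
  have hKb := isMRegular_of_le cK (le_max_left m₁ 0) hK
  have hS : (ShortComplex.mk (kernel.ι p) p (kernel.condition p)).ShortExact :=
    .mk' (ShortComplex.exact_of_f_is_kernel _ (kernelIsKernel p)) inferInstance hp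
  have hr : chi (kernel p) b = (r : ℤ) := by
    have h1 : chi (FlatMod.freeMod (CohB1.ProjSpace n k) N) b =
        chi (kernel p) b + chi (CohB1.tensorMod F (Twist.twistProjSpace n k (a : ℤ))) b :=
      chi_sub hS cK (isCoh_freeMod N) hG b
    have h2 : chi (kernel p) b = _ := finrank_eq_chi cK hKb
    have h3 : chi (CohB1.tensorMod F (Twist.twistProjSpace n k (a : ℤ))) b = χ₀ (a + b.toNat) := by
      have h4 := hχG b.toNat
      rwa [Int.toNat_of_nonneg (show (0 : ℤ) ≤ b from le_max_right m₁ 0)] at h4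
    show chi (kernel p) b = ((chi (FlatMod.freeMod (CohB1.ProjSpace n k) N) b - χ₀ (a + b.toNat)).toNat : ℤ)
    omega
  obtain ⟨q, hq⟩ := exists_epi_twist cK hKb hr
  obtain ⟨e⟩ := nonempty_twist_neg (kernel p) b
  haveI := hp
  haveI := hq
  let π : (twF (-b)).obj (FlatMod.freeMod (CohB1.ProjSpace n k) r) ⟶ kernel p :=
    (twF (k := k) (n := n) (-b)).map q ≫ e.hom
  haveI : Epi π := epi_comp _ _
  let φ₀ := π ≫ kernel.ι p
  have hc : IsColimit (CokernelCofork.ofπ p (show φ₀ ≫ p = 0 by simp [φ₀])) :=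
    isCokernelEpiComp (Abelian.epiIsCokernelOfKernel _ (kernelIsKernel p)) π rfl
  obtain ⟨e'⟩ := nonempty_twist_neg F (a : ℤ)
  exact ⟨(twF (k := k) (n := n) (-(a : ℤ))).map φ₀, ⟨(PreservesCokernel.iso (twF (k := k) (n := n) (-(a : ℤ))) φ₀).symm ≪≫
    (twF (k := k) (n := n) (-(a : ℤ))).mapIso ((cokernelIsCokernel φ₀).coconePointUniqueUpToIso hc) ≪≫ e'⟩⟩

end Groth.Agent.Bounded
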