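import Groth.Agent.Bounded.Quotients

/-!
Twists on a closed subscheme of projective space, compared with twists of the direct image.
-/

set_option linter.style.haveILetI false
set_option linter.unusedSectionVars false
set_option backward.isDefEq.respectTransparency false
set_option backward.isDefEq.respectTransparency.types false
set_option maxHeartbeats 1000000

universe u

open CategoryTheory CategoryTheory.Limits AlgebraicGeometry TopologicalSpace Opposite
open Groth.Agent.UnifReg

noncomputable section

namespace Groth.Agent.Bounded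

variable {k : Type u} [Field k] {n : ℕ} {X : Scheme.{u}} (ι : X ⟶ CohB1.ProjSpace n k) [IsClosedImmersion ι]
  [X.Over (Spec (CommRingCat.of k))] (hι : ι ≫ CohB1.ProjSpace.toSpec n k = X ↘ Spec (CommRingCat.of k))

include hι in
theorem nonempty_HH_twistOn {F : X.Modules} (hF : Coh.IsCoh F) (d : ℤ) (i : ℕ) :
    Nonempty (Coh.HH X (Pic13.twistOn k ι F d) i ≃ₗ[k]
      Coh.HH (CohB1.ProjSpace n k) (CohB1.tensorMod ((Scheme.Modules.pushforward ι).obj F) (Twist.twistProjSpace n k d)) i) := by
  have hq : Coh.IsQCoh (Pic13.twistOn k ι F d) :=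
    KFlatLib.isQCoh_tensor hF.1 (ProjUPX.isQCoh_of_isInvertible (PicClLib.isInvertible_pullback ι
      (PnCoh.Finite.isInvertible_twist (ProjRegular.coords k n) ProjRegular.coords_mem ProjRegular.coords_cover d)))
  obtain ⟨e⟩ := IntNum.push_tensor ι F (Twist.twistProjSpace n k d)
  obtain ⟨h⟩ := QCoh.HH_push_linear ι (Coh.toGlobal ((CohB1.ProjSpace n k) ↘ Spec (CommRingCat.of k)))
    (Coh.toGlobal (X ↘ Spec (CommRingCat.of k))) (fun a => by rw [← hι]; rfl) hq i
  exact ⟨h.trans (RegDescent.HHequiv (k := k) e i)⟩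

include hι in
theorem chi_push_twistOn {F : X.Modules} (hF : Coh.IsCoh F) (d : ℤ) :
    chi ((Scheme.Modules.pushforward ι).obj F) d = FGA.eulerCharLE k X (Pic13.twistOn k ι F d) n := by
  haveI : IsNoetherian (CohB1.ProjSpace n k) := Proj16.isNoetherian_proj _
  rw [chi_eq_eulerCharLE (QCoh.isCoh_pushforward_finite ι hF)]
  exact Finset.sum_congr rfl fun i _ => by
    obtain ⟨e⟩ := nonempty_HH_twistOn ι hι hF d i
    rw [e.finrank_eq]

end Groth.Agent.Bounded
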